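import Groth.Agent.AmpleVan.NakayamaFibre
import Groth.Agent.AmpleVan.Vanish
import Groth.Agent.FFun.GoodM
import Groth.Agent.FFun.PropSupp
import Groth.Agent.ParaFX.Closed
import Groth.Agent.GGFF.PicInj
import Groth.Agent.PicClLib.Basic
import Groth.Agent.S0002

/-!
# Invertible modules trivial on all thickenings of the closed fibre
-/

set_option linter.style.haveILetI false
set_option backward.isDefEq.respectTransparency false
set_option backward.isDefEq.respectTransparency.types false

universe u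

open CategoryTheory CategoryTheory.Limits AlgebraicGeometry TopologicalSpace Opposite
open Groth.Agent.PnCoh.Finite (mapLin)

noncomputable section

namespace Groth.Agent.PicThick

open Groth.Agent

variable {A : Type u} [CommRing A] {X : Scheme.{u}} [X.Over (Spec (CommRingCat.of A))]

theorem exists_hom_of_tower [IsNoetherianRing A] [IsNoetherian X] {M : X.Modules} {I : Ideal A}
    (hG : FFun.GoodM M I) :
    ∃ (k : ℕ) (h : 1 ≤ k), ∀ u : Coh.structureModule X ⟶ FFun.modJ (I ^ k) M,
      ∃ w : Coh.structureModule X ⟶ M,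
        w ≫ FFun.modJπ (I ^ 1) M = u ≫ FFun.trJ (Ideal.pow_le_pow_right h) M := by
  obtain ⟨k, hk, hy⟩ := (hG 0).2 1
  refine ⟨k, hk, fun u => ?_⟩
  let e : ∀ N : X.Modules, Coh.HH X N 0 ≃+ Γ(N, ⊤) := fun N =>
    Sheaf.H.equiv₀ (Coh.toAb N) isTerminalTop
  have he : ∀ (N N' : X.Modules) (g : N ⟶ N') (x : Coh.HH X N 0),
      e N' (mapLin A g 0 x) = g.app ⊤ (e N x) := fun N N' g x =>
    (Sheaf.H.equiv₀_naturality isTerminalTop ((QCoh.toAbFunctor X).map g) x).symm
  obtain ⟨z, hz⟩ := hy ((e _).symm (ParaFX.homSectionsEquiv _ u))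
  refine ⟨(ParaFX.homSectionsEquiv M).symm (e M z), (ParaFX.homSectionsEquiv _).injective ?_⟩
  rw [ParaFX.homSectionsEquiv_comp, ParaFX.homSectionsEquiv_comp, Equiv.apply_symm_apply]
  have h1 := congrArg (e _) hz
  rw [he, he, AddEquiv.apply_symm_apply] at h1
  exact h1

theorem exists_epi_modJ {J : Ideal A} {Z : Scheme.{u}} {i : Z ⟶ X} [IsClosedImmersion i]
    {q : Z ⟶ Spec (CommRingCat.of (A ⧸ J))}
    (sq : IsPullback i q (X ↘ Spec (CommRingCat.of A))
      (Spec.map (CommRingCat.ofHom (Ideal.Quotient.mk J))))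
    {L : X.Modules} (hL : Coh.IsQCoh L)
    (htriv : Nonempty ((Scheme.Modules.pullback i).obj L ≅
      (Scheme.Modules.pullback i).obj (Coh.structureModule X))) :
    ∃ u : Coh.structureModule X ⟶ FFun.modJ J L, Epi u := by
  obtain ⟨t⟩ := htriv
  obtain ⟨h₁, hi₁⟩ := AmpleVan.unit_desc_iso sq hL
  obtain ⟨h₀, hi₀⟩ := AmpleVan.unit_desc_iso sq QCoh.isQCoh_structureModule
  haveI := hi₁
  haveI := hi₀
  refine ⟨(Scheme.Modules.pullbackPushforwardAdjunction i).unit.app (Coh.structureModule X) ≫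
    (Scheme.Modules.pushforward i).map t.inv ≫ inv (cokernel.desc _ _ h₁), ?_⟩
  haveI : Epi ((Scheme.Modules.pullbackPushforwardAdjunction i).unit.app (Coh.structureModule X)) := by
    rw [← cokernel.π_desc _ _ h₀]
    exact epi_comp _ _
  infer_instance

theorem epi_of_epi_modJ [IsLocalRing A] [IsNoetherianRing A]
    [IsProper (X ↘ Spec (CommRingCat.of A))]
    {J : Ideal A} (hJ : J = IsLocalRing.maximalIdeal A) {Z : Scheme.{u}} {i : Z ⟶ X}
    [IsClosedImmersion i] {q : Z ⟶ Spec (CommRingCat.of (A ⧸ J))}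
    (sq : IsPullback i q (X ↘ Spec (CommRingCat.of A))
      (Spec.map (CommRingCat.ofHom (Ideal.Quotient.mk J))))
    {L : X.Modules} (hL : Coh.IsCoh L) (w : Coh.structureModule X ⟶ L)
    [Epi (w ≫ FFun.modJπ J L)] : Epi w := by
  subst hJ
  obtain ⟨h₁, hi₁⟩ := AmpleVan.unit_desc_iso sq hL.1
  haveI := hi₁
  let adj := Scheme.Modules.pullbackPushforwardAdjunction i
  haveI := AmpleVan.isIso_counit i (QCoh.isQCoh_pullback i hL.1)
  haveI h2 : IsIso ((Scheme.Modules.pullback i).map (adj.unit.app L)) :=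
    IsIso.of_isIso_fac_right (adj.left_triangle_components L)
  haveI h3 : IsIso ((Scheme.Modules.pullback i).map
      (FFun.modJπ (IsLocalRing.maximalIdeal A) L)) := by
    haveI : IsIso ((Scheme.Modules.pullback i).map
        (FFun.modJπ (IsLocalRing.maximalIdeal A) L ≫ cokernel.desc _ _ h₁)) := by
      erw [cokernel.π_desc]; exact h2
    rw [Functor.map_comp] at this
    exact IsIso.of_isIso_comp_right _ ((Scheme.Modules.pullback i).map (cokernel.desc _ _ h₁))
  haveI : Epi ((Scheme.Modules.pullback i).map w) := by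
    haveI h4 : Epi ((Scheme.Modules.pullback i).map (w ≫ FFun.modJπ (IsLocalRing.maximalIdeal A) L)) := by
      haveI := adj.leftAdjoint_preservesColimits
      infer_instance
    have e : (Scheme.Modules.pullback i).map w =
        (Scheme.Modules.pullback i).map (w ≫ FFun.modJπ (IsLocalRing.maximalIdeal A) L) ≫
          inv ((Scheme.Modules.pullback i).map (FFun.modJπ (IsLocalRing.maximalIdeal A) L)) := by
      rw [Functor.map_comp, Category.assoc, IsIso.hom_inv_id, Category.comp_id]
    rw [e]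
    exact epi_comp _ _
  exact AmpleVan.epi_of_fibre sq QCoh.isQCoh_structureModule hL w

theorem nonempty_iso_structureModule (R : Type u) [CommRing R] [IsLocalRing R] [IsNoetherianRing R]
    {Y : Scheme.{u}} (f : Y ⟶ Spec (CommRingCat.of R)) [IsProper f]
    (L : Y.Modules) (hL : PicF.IsInvertible L)
    (htriv : ∀ N : ℕ, Nonempty
      ((Scheme.Modules.pullback (CohB1.thickι f (IsLocalRing.maximalIdeal R) N)).obj L ≅
        Coh.structureModule (CohB1.thick f (IsLocalRing.maximalIdeal R) N))) :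
    Nonempty (L ≅ Coh.structureModule Y) := by
  letI : Y.Over (Spec (CommRingCat.of R)) := ⟨f⟩
  haveI : IsProper (Y ↘ Spec (CommRingCat.of R)) := ‹IsProper f›
  haveI : CompactSpace Y := QuasiCompact.compactSpace_of_compactSpace f
  haveI : IsLocallyNoetherian Y := LocallyOfFiniteType.isLocallyNoetherian f
  haveI : IsNoetherian Y := { __ := ‹IsLocallyNoetherian Y›, __ := ‹CompactSpace Y› }
  let m := IsLocalRing.maximalIdeal R
  have hLc : Coh.IsCoh L := AmpleVan.isCoh_invertible hL
  obtain ⟨k, hk, hw⟩ := exists_hom_of_tower (M := L)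
    (FFun.goodM_of_finite hLc (fun p => Groth.Agent.S0002.result R Y L hLc p) m)
  obtain ⟨j, rfl⟩ : ∃ j, k = j + 1 := ⟨k - 1, by omega⟩
  have sq : ∀ n : ℕ, IsPullback (CohB1.thickι f m n) (CohB1.thickToBase f m n) f
      (Spec.map (CommRingCat.ofHom (Ideal.Quotient.mk (m ^ (n + 1))))) :=
    fun n => IsPullback.of_hasPullback f (CohB1.specQuot m n)
  haveI hcl : ∀ n, IsClosedImmersion (CohB1.thickι f m n) := fun n =>
    MorphismProperty.of_isPullback (sq n).flip
      (IsClosedImmersion.spec_of_surjective _ Ideal.Quotient.mk_surjective)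
  obtain ⟨u, hu⟩ := exists_epi_modJ (sq j) hLc.1 (by
    obtain ⟨t⟩ := htriv j
    obtain ⟨e⟩ := PicClLib.nonempty_pullback_structureModule (CohB1.thickι f m j)
    exact ⟨t ≪≫ e.symm⟩)
  obtain ⟨w, hw'⟩ := hw u
  haveI : Epi (FFun.trJ (Ideal.pow_le_pow_right (I := m) hk) L) :=
    epi_of_epi_fac (FFun.π_descJ _ _)
  haveI : Epi (w ≫ FFun.modJπ (m ^ 1) L) := by
    rw [hw']
    exact epi_comp _ _
  haveI := epi_of_epi_modJ (pow_one m) (sq 0) hLc w
  haveI := GGFF.isIso_of_epi_invertible InvX.isInvertible_structureModule hL w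
  exact ⟨(asIso w).symm⟩

end Groth.Agent.PicThick
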