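import Groth.Agent.PicThick.Root
import Groth.Agent.H23.CocycleMod
import Groth.Agent.AVRosati.Frob
import Groth.Prelude.Def_CohB1

/-!
# `n`-torsion invertible modules lift along thickenings
-/

universe u

open CategoryTheory AlgebraicGeometry TopologicalSpace

set_option backward.isDefEq.respectTransparency false
set_option backward.isDefEq.respectTransparency.types false

namespace Groth.Agent.PicThick

open Groth.Agent.AModX Groth.Agent.InvX Groth.Agent.AmpleX

variable {X X' : Scheme.{u}}

theorem isUnit_app_of_frame {M : X.Modules} (φ : M ≅ Coh.structureModule X) {V : X.Opens} {e : Γ(M, V)}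
    (he : IsFrame e) : IsUnit (show Γ(X, V) from φ.hom.app V e) := by
  obtain ⟨r, hr⟩ := he.exists_coord le_rfl (φ.inv.app V (show Γ(Coh.structureModule X, V) from (1 : Γ(X, V))))
  have h1 : φ.hom.app V (φ.inv.app V (show Γ(Coh.structureModule X, V) from (1 : Γ(X, V)))) =
      (show Γ(Coh.structureModule X, V) from (1 : Γ(X, V))) := by
    rw [← CategoryTheory.comp_apply, ← Scheme.Modules.Hom.comp_app, φ.inv_hom_id]
    rfl
  rw [hr, res_self, Scheme.Modules.Hom.app_smul] at h1
  have h2 : r * (show Γ(X, V) from φ.hom.app V e) = (1 : Γ(X, V)) := h1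
  exact IsUnit.of_mul_eq_one_right r h2

variable (i : X ⟶ X') [IsClosedImmersion i] [Surjective i] {n : ℕ} (hn : IsUnit (n : Γ(X', ⊤)))

include hn in
theorem exists_lift (L : X.Modules) (hL : PicF.IsInvertible L)
    (φ : CohB1.tensorPow L n ≅ Coh.structureModule X) :
    ∃ L' : X'.Modules, PicF.IsInvertible L' ∧ Nonempty ((Scheme.Modules.pullback i).obj L' ≅ L) ∧
      Nonempty (CohB1.tensorPow L' n ≅ Coh.structureModule X') := by
  -- an affine cover of `X'` carrying frames
  have hcov : ∀ x : X, ∃ (U : X'.Opens) (e : Γ(L, i ⁻¹ᵁ U)), i x ∈ U ∧ IsAffineOpen U ∧ IsFrame e := fun x => by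
    obtain ⟨V, hxV, e, he⟩ := exists_frame hL x
    obtain ⟨T, hT, hTV⟩ := i.isEmbedding.isInducing.isOpen_iff.mp V.isOpen
    obtain ⟨_, ⟨U, hU, rfl⟩, hxU, hUT⟩ := X'.isBasis_affineOpens.exists_subset_of_mem_open
      (show i x ∈ T from (Set.ext_iff.mp hTV x).mpr hxV) hT
    have hle : i ⁻¹ᵁ U ≤ V := fun y hy => (Set.ext_iff.mp hTV y).mp (hUT hy)
    exact ⟨U, res L hle e, hxU, hU, he.res hle⟩
  choose U e hxU hU he using hcov
  have hcov' : ∀ z : X', ∃ x, z ∈ U x := fun z => by
    obtain ⟨x, rfl⟩ := i.surjective z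
    exact ⟨x, hxU x⟩
  have nat : ∀ {V V' : X'.Opens} (hV : V' ≤ V) (z : Γ(X', V)),
      i.app V' (resR hV z) = resR (i.preimage_mono hV) (i.app V z) := fun hV z =>
    ConcreteCategory.congr_hom (i.naturality (homOfLE hV).op) z
  -- lifts of the values of `φ` on powers of the frames
  let a : ∀ x : X, Γ(X, i ⁻¹ᵁ U x) := fun x => φ.hom.app (i ⁻¹ᵁ U x) (powElt (e x) n)
  have ha : ∀ x, IsUnit (a x) := fun x => isUnit_app_of_frame φ (isFrame_powElt (he x) n)
  have hlift : ∀ x, ∃ a' : Γ(X', U x), i.app (U x) a' = a x := fun x => i.app_surjective (U x) (hU x) (a x)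
  choose a' ha' using hlift
  have hau : ∀ x, IsUnit (a' x) := fun x => H23.InfLift.isUnit_of_app i i.surjective _ (by rw [ha']; exact ha x)
  -- transition functions
  have hg : ∀ x y, ∃ g : Γ(X, i ⁻¹ᵁ (U x ⊓ U y)), IsUnit g ∧
      res L (i.preimage_mono inf_le_right) (e y) = g • res L (i.preimage_mono inf_le_left) (e x) ∧
      g ^ n * resR (i.preimage_mono inf_le_left) (a x) = resR (i.preimage_mono inf_le_right) (a y) := fun x y => by
    set W := i ⁻¹ᵁ (U x ⊓ U y)
    have hx : W ≤ i ⁻¹ᵁ U x := i.preimage_mono inf_le_left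
    have hy : W ≤ i ⁻¹ᵁ U y := i.preimage_mono inf_le_right
    obtain ⟨g, hg⟩ := (he x).exists_coord hx (res L hy (e y))
    obtain ⟨g', hg'⟩ := (he y).exists_coord hy (res L hx (e x))
    have hu : IsUnit g := IsUnit.of_mul_eq_one g' ((he y).coord_unique hy (r := g * g') (r' := 1)
      (by rw [mul_smul, ← hg', one_smul, ← hg]))
    refine ⟨g, hu, hg, ?_⟩
    have hval : ∀ (z : X) (hz : W ≤ i ⁻¹ᵁ U z), resR hz (a z) =
        φ.hom.app W (powElt (res L hz (e z)) n) := fun z hz => by
      rw [← res_powElt, app_res]; rfl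
    rw [hval x hx, hval y hy, hg, powElt_smul, Scheme.Modules.Hom.app_smul]
    rfl
  choose g hgu hge hga using hg
  have hg' : ∀ x y, ∃ r : Γ(X', U x ⊓ U y), IsUnit r ∧ i.app (U x ⊓ U y) r = g x y ∧
      r ^ n * resR inf_le_left (a' x) = resR inf_le_right (a' y) := fun x y => by
    obtain ⟨b, hb⟩ := ((hau x).map (resR (inf_le_left : U x ⊓ U y ≤ U x))).exists_left_inv
    have hb' : i.app (U x ⊓ U y) b * resR (i.preimage_mono inf_le_left) (a x) = 1 := by
      rw [← ha', ← nat inf_le_left, ← map_mul, hb, map_one]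
    obtain ⟨r, hru, hri, hrn⟩ := exists_root i hn (W := U x ⊓ U y) (a := b * resR inf_le_right (a' y)) (hgu x y) (by
      rw [map_mul, nat inf_le_right, ha', ← hga, mul_left_comm, hb', mul_one])
    refine ⟨r, hru, hri, ?_⟩
    rw [hrn, mul_right_comm, hb, one_mul]
  choose r hru hri hrn using hg'
  -- the cocycle, in the convention `eᵢ = gᵢⱼ eⱼ`
  let t : H23.CocycleMod.Cocycle U :=
    { g := fun x y => (hru y x).unit.map (resR (le_of_eq (inf_comm _ _) : U x ⊓ U y ≤ U y ⊓ U x))
      trans := fun x y z W hx hy hz => by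
        show resR _ (resR _ (r z x)) = resR _ (resR _ (r z y)) * resR _ (resR _ (r y x))
        rw [resR_resR, resR_resR, resR_resR]
        have A : ∀ p q (hp : W ≤ U p) (hq : W ≤ U q),
            resR (le_inf hp hq) (r p q) ^ n * resR hp (a' p) = resR hq (a' q) := fun p q hp hq => by
          have := congrArg (resR (le_inf hp hq)) (hrn p q)
          rwa [map_mul, map_pow, resR_resR, resR_resR] at this
        have Bm : ∀ p q (hp : W ≤ U p) (hq : W ≤ U q),
            res L (i.preimage_mono hq) (e q) =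
              i.app W (resR (le_inf hp hq) (r p q)) • res L (i.preimage_mono hp) (e p) := fun p q hp hq => by
          have := congrArg (res L (i.preimage_mono (le_inf hp hq))) (hge p q)
          rw [res_res, res_smul, res_res] at this
          rwa [nat (le_inf hp hq), hri]
        refine eq_of_root i hn ((hru z x).map _) ?_ ?_
        · rw [map_mul]
          refine (he z).coord_unique (i.preimage_mono hz) ?_
          rw [← Bm z x hz hx, mul_comm, mul_smul, ← Bm z y hz hy, ← Bm y x hy hx]
        · refine ((hau z).map (resR hz)).mul_right_cancel ?_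
          rw [mul_pow, A z x hz hx, mul_comm (resR _ (r z y) ^ n), mul_assoc, A z y hz hy, A y x hy hx] }
  let L' := H23.CocycleMod.mod t
  let f : ∀ x, Γ(L', U x) := H23.CocycleMod.frame t
  have hf : ∀ x, IsFrame (f x) := H23.CocycleMod.isFrame_frame t
  have hfr : ∀ x y, res L' (inf_le_right : U x ⊓ U y ≤ U y) (f y) =
      r x y • res L' (inf_le_left : U x ⊓ U y ≤ U x) (f x) := fun x y => by
    have h1 := congrArg (res L' (le_of_eq (inf_comm _ _) : U x ⊓ U y ≤ U y ⊓ U x)) (H23.CocycleMod.res_frame t y x)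
    rw [res_res, res_smul, res_res] at h1
    refine h1.trans ?_
    congr 1
    show resR _ (resR _ (r x y)) = r x y
    rw [resR_resR, resR_self]
  refine ⟨L', H23.CocycleMod.isInvertible t (eq_top_iff.mpr fun z _ => Opens.mem_iSup.mpr (hcov' z)), ?_, ?_⟩
  · refine AVRosati.nonempty_iso_of_frames (fun x => i ⁻¹ᵁ U x) (fun y => ⟨y, hxU y⟩)
      (fun x => pullElt i (f x)) e (fun x => isFrame_pullElt i (hf x)) he fun x y W hx hy c hc => ?_
    have hW : W ≤ i ⁻¹ᵁ (U x ⊓ U y) := le_inf hx hy
    have h1 := congrArg (res _ hW) (congrArg (pullElt i) (hfr x y))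
    rw [pullElt_smul, res_smul, ← res_pullElt i inf_le_left, ← res_pullElt i inf_le_right, res_res, res_res,
      hri] at h1
    rw [(isFrame_pullElt i (hf x)).coord_unique hx (hc.symm.trans h1)]
    have h2 := congrArg (res L hW) (hge x y)
    rwa [res_res, res_smul, res_res] at h2
  · refine AVRosati.nonempty_iso_of_frames U hcov' (fun x => powElt (f x) n)
      (fun x => show Γ(Coh.structureModule X', U x) from a' x) (fun x => isFrame_powElt (hf x) n) (fun x => ?_)
      fun x y W hx hy c hc => ?_
    · have h1 := (isFrame_one (X := X') (U x)).isUnit_smul (hau x)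
      have e1 : a' x • (show Γ(Coh.structureModule X', U x) from (1 : Γ(X', U x))) =
          (show Γ(Coh.structureModule X', U x) from a' x) := by
        show (a' x * (1 : Γ(X', U x)) : Γ(X', U x)) = a' x
        exact mul_one _
      rwa [e1] at h1
    · have h1 := congrArg (res L' (le_inf hx hy)) (hfr x y)
      rw [res_res, res_smul, res_res] at h1
      rw [res_powElt, res_powElt, h1, powElt_smul] at hc
      have hc' : c = resR (le_inf hx hy) (r x y) ^ n :=
        ((isFrame_powElt (hf x) n).res hx).coord_unique le_rfl (by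
          rw [res_self, res_powElt, ← hc])
      show resR hy (a' y) = c * resR hx (a' x)
      have h2 := congrArg (resR (le_inf hx hy)) (hrn x y)
      rw [map_mul, map_pow, resR_resR, resR_resR] at h2
      rw [hc', h2]

end Groth.Agent.PicThick
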