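import Groth.Agent.H23.InfLift
import Mathlib.Dynamics.Newton

/-!
# `n`-th roots of units lift uniquely along thickenings when `n` is invertible
-/

universe u

open CategoryTheory AlgebraicGeometry TopologicalSpace

set_option backward.isDefEq.respectTransparency false
set_option backward.isDefEq.respectTransparency.types false

namespace Groth.Agent.PicThick

open Groth.Agent.AModX

theorem root_unique {R : Type*} [CommRing R] {n : ℕ} (hn : IsUnit (n : R)) {g g' : R} (hg : IsUnit g)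
    (hnil : IsNilpotent (g - g')) (h : g ^ n = g' ^ n) : g = g' := by
  let P : Polynomial R := Polynomial.X ^ n - Polynomial.C (g ^ n)
  have h0 : IsNilpotent (Polynomial.aeval g P) := by simp [P]
  have h1 : IsUnit (Polynomial.aeval g (Polynomial.derivative P)) := by
    have e : Polynomial.aeval g (Polynomial.derivative P) = (n : R) * g ^ (n - 1) := by
      simp only [P, Polynomial.derivative_sub, Polynomial.derivative_X_pow, Polynomial.derivative_C, sub_zero]
      simp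
    exact e ▸ hn.mul (hg.pow (n - 1))
  exact (Polynomial.existsUnique_nilpotent_sub_and_aeval_eq_zero h0 h1).unique
    ⟨by simp, by simp [P]⟩ ⟨hnil, by simp [P, h]⟩

variable {X X' : Scheme.{u}} (i : X ⟶ X') [IsClosedImmersion i] [Surjective i]

theorem isNilpotent_of_app {Ω : X'.Opens} (hΩ : IsAffineOpen Ω) {z : Γ(X', Ω)} (hz : i.app Ω z = 0) :
    IsNilpotent z := by
  have hbot : X'.basicOpen z = ⊥ := le_bot_iff.mp fun x hx => by
    obtain ⟨y, rfl⟩ := i.surjective x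
    have hy : y ∈ i ⁻¹ᵁ X'.basicOpen z := hx
    rw [Scheme.preimage_basicOpen, hz, Scheme.basicOpen_zero] at hy
    exact hy
  rw [← PrimeSpectrum.basicOpen_eq_bot_iff, ← hΩ.fromSpec_preimage_basicOpen, hbot]
  rfl

variable {n : ℕ} (hn : IsUnit (n : Γ(X', ⊤)))

include hn in
omit [IsClosedImmersion i] [Surjective i] in
theorem isUnit_natCast (W : X'.Opens) : IsUnit (n : Γ(X', W)) := by
  have := hn.map (resR (le_top : W ≤ ⊤))
  rwa [map_natCast] at this

include hn in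
theorem eq_of_root {W : X'.Opens} {g g' : Γ(X', W)} (hg : IsUnit g) (he : i.app W g = i.app W g')
    (h : g ^ n = g' ^ n) : g = g' := by
  refine eq_of_locally (M := Coh.structureModule X') _ _ fun x hx => ?_
  obtain ⟨_, ⟨Ω, hΩ, rfl⟩, hxΩ, hΩW⟩ := X'.isBasis_affineOpens.exists_subset_of_mem_open hx W.isOpen
  refine ⟨Ω, hΩW, hxΩ, ?_⟩
  show resR hΩW g = resR hΩW g'
  refine root_unique (isUnit_natCast hn Ω) (hg.map _) (isNilpotent_of_app i hΩ ?_) (by rw [← map_pow, h, map_pow])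
  have e : ∀ z : Γ(X', W), i.app Ω (resR hΩW z) = resR (i.preimage_mono hΩW) (i.app W z) := fun z =>
    ConcreteCategory.congr_hom (i.naturality (homOfLE hΩW).op) z
  rw [map_sub, e, e, he, sub_self]

include hn in
theorem exists_root_affine {Ω : X'.Opens} (hΩ : IsAffineOpen Ω) {a : Γ(X', Ω)} {g : Γ(X, i ⁻¹ᵁ Ω)}
    (hg : IsUnit g) (h : g ^ n = i.app Ω a) : ∃ r : Γ(X', Ω), IsUnit r ∧ i.app Ω r = g ∧ r ^ n = a := by
  obtain ⟨g₀, hg₀⟩ := i.app_surjective Ω hΩ g
  have hu₀ : IsUnit g₀ := H23.InfLift.isUnit_of_app i i.surjective g₀ (hg₀ ▸ hg)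
  let P : Polynomial Γ(X', Ω) := Polynomial.X ^ n - Polynomial.C a
  have h0 : IsNilpotent (Polynomial.aeval g₀ P) := by
    refine isNilpotent_of_app i hΩ ?_
    simp [P, hg₀, h]
  have h1 : IsUnit (Polynomial.aeval g₀ (Polynomial.derivative P)) := by
    have e : Polynomial.aeval g₀ (Polynomial.derivative P) = (n : Γ(X', Ω)) * g₀ ^ (n - 1) := by
      simp only [P, Polynomial.derivative_sub, Polynomial.derivative_X_pow, Polynomial.derivative_C, sub_zero]
      simp
    exact e ▸ (isUnit_natCast hn Ω).mul (hu₀.pow (n - 1))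
  obtain ⟨r, ⟨hnil, hr⟩, -⟩ := Polynomial.existsUnique_nilpotent_sub_and_aeval_eq_zero h0 h1
  have hrn : r ^ n = a := by simpa [P, sub_eq_zero] using hr
  have hru : IsUnit r := by
    have := hnil.neg.isUnit_add_left_of_commute hu₀ (Commute.all _ _)
    simpa using this
  refine ⟨r, hru, ?_, hrn⟩
  have hn' : IsUnit (n : Γ(X, i ⁻¹ᵁ Ω)) := by
    simpa using (isUnit_natCast hn Ω).map (i.app Ω).hom
  refine root_unique hn' (hru.map _) ?_ (by rw [h, ← map_pow, hrn])
  have := hnil.neg.map (i.app Ω).hom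
  rw [neg_sub, map_sub] at this
  simpa [hg₀] using this

include hn in
theorem exists_root {W : X'.Opens} {a : Γ(X', W)} {g : Γ(X, i ⁻¹ᵁ W)}
    (hg : IsUnit g) (h : g ^ n = i.app W a) : ∃ r : Γ(X', W), IsUnit r ∧ i.app W r = g ∧ r ^ n = a := by
  let ι := {Ω : X'.Opens // IsAffineOpen Ω ∧ Ω ≤ W}
  have e : ∀ {V V' : X'.Opens} (hV : V' ≤ V) (z : Γ(X', V)),
      i.app V' (resR hV z) = resR (i.preimage_mono hV) (i.app V z) := fun hV z =>
    ConcreteCategory.congr_hom (i.naturality (homOfLE hV).op) z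
  have hloc : ∀ Ω : ι, ∃ r : Γ(X', Ω.1), IsUnit r ∧ i.app Ω.1 r = resR (i.preimage_mono Ω.2.2) g ∧
      r ^ n = resR Ω.2.2 a := fun Ω =>
    exists_root_affine i hn Ω.2.1 (hg.map _) (by rw [← map_pow, h, e])
  choose r hu hi hp using hloc
  obtain ⟨R, hR, -⟩ := existsUnique_glue (M := Coh.structureModule X') (V := W) (fun Ω : ι => Ω.1)
    (fun Ω => Ω.2.2) (fun x hx => by
      obtain ⟨_, ⟨Ω, hΩ, rfl⟩, hxΩ, hΩW⟩ := X'.isBasis_affineOpens.exists_subset_of_mem_open hx W.isOpen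
      exact ⟨⟨Ω, hΩ, hΩW⟩, hxΩ⟩) r fun Ω Ω' => by
      show resR inf_le_left (r Ω) = resR inf_le_right (r Ω')
      refine eq_of_root i hn ((hu Ω).map _) ?_ ?_
      · rw [e inf_le_left, e inf_le_right, hi, hi, resR_resR, resR_resR]
      · rw [← map_pow, ← map_pow, hp, hp, resR_resR, resR_resR]
  have hcov : ∀ x ∈ W, ∃ Ω : ι, x ∈ Ω.1 := fun x hx => by
    obtain ⟨_, ⟨Ω, hΩ, rfl⟩, hxΩ, hΩW⟩ := X'.isBasis_affineOpens.exists_subset_of_mem_open hx W.isOpen
    exact ⟨⟨Ω, hΩ, hΩW⟩, hxΩ⟩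
  have hR' : ∀ Ω : ι, resR Ω.2.2 (show Γ(X', W) from R) = r Ω := hR
  have hRi : i.app W R = g := by
    refine eq_of_locally (M := Coh.structureModule X) _ _ fun y hy => ?_
    obtain ⟨Ω, hΩ⟩ := hcov (i y) hy
    refine ⟨i ⁻¹ᵁ Ω.1, i.preimage_mono Ω.2.2, hΩ, ?_⟩
    show resR _ (i.app W R) = resR _ g
    rw [← e Ω.2.2, hR', hi]
  refine ⟨R, H23.InfLift.isUnit_of_app i i.surjective _ (hRi ▸ hg), hRi, ?_⟩
  refine eq_of_locally (M := Coh.structureModule X') _ _ fun x hx => ?_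
  obtain ⟨Ω, hΩ⟩ := hcov x hx
  refine ⟨Ω.1, Ω.2.2, hΩ, ?_⟩
  show resR _ (_ ^ n) = resR _ a
  rw [map_pow, hR', hp]

end Groth.Agent.PicThick
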